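import Cfsg.Agent.Lib.M24Order.CountM24Data

/-!
The numbers of elements of each order in M24.  By transitivity on five-tuples, the pairs (element,
tuple following a pattern) are counted by the 960 elements with prescribed images of four base
points; nineteen rows of such counts add up to the whole group.
-/

set_option autoImplicit false
set_option maxRecDepth 20000
set_option linter.style.haveILetI false

namespace Cfsg.Agent.M24Order.CountM24

open Cfsg Cfsg.Agent.Golay.Basic Cfsg.Agent.Golay.Perm Cfsg.Agent.Golay.M24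
  Cfsg.Agent.Golay.M24Data Cfsg.Agent.Golay.Cert Cfsg.Agent.M24Module.ClassData
  Cfsg.Agent.M24Module.Classes Cfsg.Agent.M24Module.CentBase Cfsg.Agent.M24Module.Trie
open Cfsg.Agent.M24Module.ObjOrbit (modulus)

local notation "pG" => Equiv.Perm GolayPt

theorem forall_lt_four {P : ℕ → Prop} : (∀ i < 4, P i) ↔ P 0 ∧ P 1 ∧ P 2 ∧ P 3 :=
  ⟨fun h => ⟨h 0 (by norm_num), h 1 (by norm_num), h 2 (by norm_num), h 3 (by norm_num)⟩,
    fun ⟨h0, h1, h2, h3⟩ i hi => by interval_cases i <;> assumption⟩

theorem okB_iff {p : ℕ} (hp : p < 4) (f : ℕ → ℕ) (x y : ℕ) :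
    okB p f x y = true ↔ Ok p f x y := by
  interval_cases p <;>
    simp [okB, Ok, ext, img, bne_iff_ne, forall_lt_four, and_assoc] <;>
    grind

theorem ext_map {α β : Type*} {p : ℕ} {f : α → α} {f' : β → β} {h : α → β}
    (hh : ∀ z, h (f z) = f' (h z)) (x y : α) :
    (ext p f x y).map h = ext p f' (h x) (h y) := by
  unfold ext
  split <;> simp [hh]

theorem ok_map {α β : Type*} {p : ℕ} {f : α → α} {f' : β → β} {h : α → β}
    (hinj : Function.Injective h) (hh : ∀ z, h (f z) = f' (h z)) (x y : α) :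
    Ok p f' (h x) (h y) ↔ Ok p f x y := by
  unfold Ok
  rw [← ext_map hh, List.nodup_map_iff hinj]
  have e : ∀ i j : ℕ, (((ext p f x y).map h)[i]?).map f' = ((ext p f x y).map h)[j]? ↔
      ((ext p f x y)[i]?).map f = (ext p f x y)[j]? := by
    intro i j
    rw [List.getElem?_map, List.getElem?_map]
    rcases (ext p f x y)[i]? with _ | a <;> rcases (ext p f x y)[j]? with _ | b <;>
      simp [← hh, hinj.eq_iff]
  simp only [hinj.eq_iff, e]

open Classical in
/-- The number of tuples following the pattern. -/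
noncomputable def W (p : ℕ) (g : pG) : ℕ :=
  ((Finset.univ : Finset (GolayPt × GolayPt)).filter fun q => Ok p (g : GolayPt → GolayPt) q.1 q.2).card

theorem W_conj (p : ℕ) (k g : pG) : W p (k * g * k⁻¹) = W p g := by
  classical
  unfold W
  refine (Finset.card_bij' (fun q _ => (k q.1, k q.2)) (fun q _ => (k⁻¹ q.1, k⁻¹ q.2)) ?_ ?_ ?_ ?_).symm
  · intro q hq
    simp only [Finset.mem_filter, Finset.mem_univ, true_and] at hq ⊢
    exact (ok_map k.injective (fun z => by simp) _ _).2 hq
  · intro q hq
    simp only [Finset.mem_filter, Finset.mem_univ, true_and] at hq ⊢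
    exact (ok_map (k⁻¹).injective (fun z => by simp) _ _).2 hq
  · intro q _; simp
  · intro q _; simp

theorem W_eq_wTab {c : ℕ} {g : pG} (h : IsTab c g) {p : ℕ} (hp : p < 4) : W p g = wTab p c := by
  classical
  have h1 : W p g = ∑ i ∈ Finset.range 24,
      ((Finset.range 24).filter fun j => Ok p (tabAt c) i j).card := by
    have e : W p g = ((Finset.range 24 ×ˢ Finset.range 24).filter fun q =>
        Ok p (tabAt c) q.1 q.2).card := by
      unfold W
      refine Finset.card_bij' (fun q _ => (ix q.1, ix q.2)) (fun q _ => (pt q.1, pt q.2)) ?_ ?_ ?_ ?_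
      · intro q hq
        simp only [Finset.mem_filter, Finset.mem_univ, true_and] at hq
        simp only [Finset.mem_filter, Finset.mem_product, Finset.mem_range]
        exact ⟨⟨ix_lt _, ix_lt _⟩, (ok_map ix_injective h _ _).2 hq⟩
      · intro q hq
        simp only [Finset.mem_filter, Finset.mem_product, Finset.mem_range] at hq
        simp only [Finset.mem_filter, Finset.mem_univ, true_and]
        rw [← ok_map ix_injective h, ix_pt hq.1.1, ix_pt hq.1.2]
        exact hq.2
      · intro q _; simp [pt_ix]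
      · intro q hq
        simp only [Finset.mem_filter, Finset.mem_product, Finset.mem_range] at hq
        simp [ix_pt hq.1.1, ix_pt hq.1.2]
    rw [e, Finset.card_filter, Finset.sum_product]
    exact Finset.sum_congr rfl fun i _ => (Finset.card_filter _ _).symm
  rw [h1, wTab]
  refine Finset.sum_congr rfl fun i hi => ?_
  split
  · next hp2 =>
    split
    · next hok =>
      rw [Finset.card_eq_one]
      refine ⟨i, ?_⟩
      ext j
      simp only [Finset.mem_filter, Finset.mem_singleton]
      refine ⟨fun hj => hj.2.1 hp2, ?_⟩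
      rintro rfl
      exact ⟨hi, (okB_iff hp _ _ _).1 hok⟩
    · next hok =>
      rw [Finset.card_eq_zero, Finset.filter_eq_empty_iff]
      intro j _ hj
      have := hj.1 hp2
      subst this
      exact hok ((okB_iff hp _ _ _).2 hj)
  · simp only [okB_iff hp]

/-! ### The double count -/

/-- The base tuple of a pattern. -/
def baseList (p : ℕ) : List GolayPt := (List.range (len p)).map base

/-- The prescribed images. -/
def Imgs (p : ℕ) (g : pG) : Prop := ∀ i < 4, g (base i) = base ((img p).getD i 0)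

theorem length_ext {α : Type*} {p : ℕ} (hp : p < 4) (f : α → α) (x y : α) :
    (ext p f x y).length = len p := by
  interval_cases p <;> rfl

theorem fiber_iff {p : ℕ} (hp : p < 4) (g : pG) (x y : GolayPt) :
    Ok p g x y ∧ ext p g x y = baseList p ↔ x = base 0 ∧ y = base (free p) ∧ Imgs p g := by
  have hnd : (baseList p).Nodup := by interval_cases p <;> decide +kernel
  constructor
  · rintro ⟨⟨hy, -, hrel⟩, he⟩
    rw [he] at hrel
    interval_cases p <;>
    · have h0 := hrel 0 (by norm_num)
      have h1 := hrel 1 (by norm_num)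
      have h2 := hrel 2 (by norm_num)
      have h3 := hrel 3 (by norm_num)
      simp [baseList, len, img, List.range_succ] at h0 h1 h2 h3
      simp [baseList, len, ext, List.range_succ] at he
      refine ⟨he.1, ?_, fun i hi => ?_⟩
      · first
          | exact (hy (by norm_num)).trans he.1
          | simp [free, he]
      · interval_cases i <;> simp [img, h0, h1, h2, h3]
  · rintro ⟨rfl, rfl, hI⟩
    have h0 := hI 0 (by norm_num)
    have h1 := hI 1 (by norm_num)
    have h2 := hI 2 (by norm_num)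
    have h3 := hI 3 (by norm_num)
    have he : ext p g (base 0) (base (free p)) = baseList p := by
      interval_cases p <;>
        simp [img] at h0 h1 h2 h3 <;>
        simp [ext, baseList, len, free, List.range_succ, h0, h1, h2, h3]
    refine ⟨⟨fun h2' => by interval_cases p <;> rfl, by rw [he]; exact hnd, ?_⟩, he⟩
    rw [he]
    intro i hi
    interval_cases p <;> interval_cases i <;>
      simp [img] at h0 h1 h2 h3 <;>
      simp [baseList, len, img, List.range_succ, h0, h1, h2, h3]

open Classical in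
theorem double_count [Fintype ↥Cfsg.M24] {p : ℕ} (hp : p < 4) (n w : ℕ) :
    ((Finset.univ : Finset ↥Cfsg.M24).filter fun g : ↥Cfsg.M24 => orderOf g = n ∧ W p (g : pG) = w).card * w =
      Nat.descFactorial 24 (len p) *
        ((Finset.univ : Finset ↥Cfsg.M24).filter fun g : ↥Cfsg.M24 =>
          (orderOf g = n ∧ W p (g : pG) = w) ∧ Imgs p (g : pG)).card := by
  set A : Finset (↥Cfsg.M24 × GolayPt × GolayPt) := Finset.univ.filter fun q =>
    (orderOf q.1 = n ∧ W p (q.1 : pG) = w) ∧ Ok p ((q.1 : pG) : GolayPt → GolayPt) q.2.1 q.2.2 with hA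
  set T : Finset (List GolayPt) := (Finset.univ : Finset (Fin (len p) ↪ GolayPt)).map
    ⟨fun e : Fin (len p) ↪ GolayPt => List.ofFn ⇑e, fun a b h => DFunLike.coe_injective (List.ofFn_injective h)⟩
    with hT
  have hmem : ∀ l : List GolayPt, l ∈ T ↔ l.Nodup ∧ l.length = len p := by
    intro l
    simp only [hT, Finset.mem_map, Finset.mem_univ, true_and, Function.Embedding.coeFn_mk]
    constructor
    · rintro ⟨e, rfl⟩
      exact ⟨List.nodup_ofFn_ofInjective e.injective, List.length_ofFn⟩
    · rintro ⟨hnd, hlen⟩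
      refine ⟨⟨fun i => l[(i : ℕ)]'(by omega), fun i j hij => Fin.ext (hnd.getElem_inj_iff.1 hij)⟩, ?_⟩
      show List.ofFn _ = l
      apply List.ext_getElem
      · simp [hlen]
      · intro i h1 h2; rw [List.getElem_ofFn]; rfl
  have hTc : T.card = Nat.descFactorial 24 (len p) := by
    rw [hT, Finset.card_map, Finset.card_univ, Fintype.card_embedding_eq, Fintype.card_fin,
      show Fintype.card GolayPt = 24 by decide]
  have hAc : A.card =
      ((Finset.univ : Finset ↥Cfsg.M24).filter fun g : ↥Cfsg.M24 => orderOf g = n ∧ W p (g : pG) = w).card * w := by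
    have h : ∀ g ∈ ((Finset.univ : Finset ↥Cfsg.M24).filter fun g : ↥Cfsg.M24 => orderOf g = n ∧ W p (g : pG) = w),
        (A.filter fun q => q.1 = g).card = w := by
      intro g hg
      simp only [Finset.mem_filter, Finset.mem_univ, true_and] at hg
      conv_rhs => rw [← hg.2]
      unfold W
      refine Finset.card_bij' (fun q _ => q.2) (fun q _ => (g, q)) ?_ ?_ ?_ ?_
      · intro q hq
        simp only [hA, Finset.mem_filter, Finset.mem_univ, true_and] at hq ⊢
        obtain ⟨⟨-, h⟩, rfl⟩ := hq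
        exact h
      · intro q hq
        simp only [hA, Finset.mem_filter, Finset.mem_univ, true_and] at hq ⊢
        exact ⟨⟨hg, hq⟩, trivial⟩
      · intro q hq
        simp only [Finset.mem_filter] at hq
        rw [← hq.2]
      · intro q _; rfl
    rw [Finset.card_eq_sum_card_fiberwise (f := fun q : ↥Cfsg.M24 × GolayPt × GolayPt => q.1)
      (t := (Finset.univ : Finset ↥Cfsg.M24).filter fun g : ↥Cfsg.M24 => orderOf g = n ∧ W p (g : pG) = w)
      (fun q hq => by
        simp only [hA, Finset.coe_filter, Finset.mem_univ, true_and, Set.mem_setOf_eq] at hq ⊢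
        exact hq.1), Finset.sum_congr rfl h, Finset.sum_const, smul_eq_mul]
  have hfib : ∀ t ∈ T, (A.filter fun q => ext p ((q.1 : pG) : GolayPt → GolayPt) q.2.1 q.2.2 = t).card =
      ((Finset.univ : Finset ↥Cfsg.M24).filter fun g : ↥Cfsg.M24 =>
        (orderOf g = n ∧ W p (g : pG) = w) ∧ Imgs p (g : pG)).card := by
    intro t ht
    obtain ⟨hnd, hlen⟩ := (hmem t).1 ht
    have h5 : len p ≤ 5 := by interval_cases p <;> simp [len]
    obtain ⟨a, ha, hai⟩ := exists_to_base (len p) h5 (fun i => t.getD i none) (by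
      intro i hi j hj h
      simp only [Set.mem_Iio] at hi hj
      simp only [List.getD_eq_getElem _ _ (show i < t.length by omega),
        List.getD_eq_getElem _ _ (show j < t.length by omega)] at h
      exact hnd.getElem_inj_iff.1 h)
    have hta : t.map a = baseList p := by
      apply List.ext_getElem
      · simp [baseList, hlen]
      · intro i h1 h2
        have := hai i (by simpa [hlen] using h1)
        simp only [List.getD_eq_getElem _ _ (show i < t.length by simpa using h1)] at this
        simp [baseList, this]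
    let a' : ↥Cfsg.M24 := ⟨a, ha⟩
    have key : ∀ (g : ↥Cfsg.M24) (x y : GolayPt),
        (Ok p ((a' * g * a'⁻¹ : ↥Cfsg.M24) : pG) (a x) (a y) ↔ Ok p (g : pG) x y) ∧
        ext p ((a' * g * a'⁻¹ : ↥Cfsg.M24) : pG) (a x) (a y) = (ext p (g : pG) x y).map a := by
      intro g x y
      have hh : ∀ z, a ((g : pG) z) = ((a' * g * a'⁻¹ : ↥Cfsg.M24) : pG) (a z) := by
        intro z; simp [a']
      exact ⟨ok_map a.injective hh x y, (ext_map hh x y).symm⟩
    refine Finset.card_bij' (fun q _ => a' * q.1 * a'⁻¹)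
      (fun g _ => (a'⁻¹ * g * a', a⁻¹ (base 0), a⁻¹ (base (free p)))) ?_ ?_ ?_ ?_
    · intro q hq
      simp only [hA, Finset.mem_filter, Finset.mem_univ, true_and] at hq ⊢
      obtain ⟨⟨⟨ho, hw⟩, hok⟩, he⟩ := hq
      refine ⟨⟨?_, ?_⟩, ?_⟩
      · rw [← ho]; exact MulEquiv.orderOf_eq (MulAut.conj a') _
      · rw [← hw, Subgroup.coe_mul, Subgroup.coe_mul, Subgroup.coe_inv, W_conj]
      · have := (fiber_iff hp _ (a q.2.1) (a q.2.2)).1
          ⟨(key q.1 _ _).1.2 hok, by rw [(key q.1 _ _).2, he, hta]⟩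
        exact this.2.2
    · intro g hg
      simp only [Finset.mem_filter, Finset.mem_univ, true_and] at hg
      obtain ⟨⟨ho, hw⟩, hI⟩ := hg
      obtain ⟨hok, he⟩ := (fiber_iff hp (g : pG) (base 0) (base (free p))).2 ⟨rfl, rfl, hI⟩
      have hg' : a' * (a'⁻¹ * g * a') * a'⁻¹ = g := by group
      have k1 := key (a'⁻¹ * g * a') (a⁻¹ (base 0)) (a⁻¹ (base (free p)))
      rw [hg'] at k1
      simp only [show ∀ z, a (a⁻¹ z) = z from fun z => a.apply_symm_apply z] at k1
      simp only [hA, Finset.mem_filter, Finset.mem_univ, true_and]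
      refine ⟨⟨⟨?_, ?_⟩, k1.1.1 hok⟩, ?_⟩
      · rw [← ho]
        conv_rhs => rw [← hg']
        exact (MulEquiv.orderOf_eq (MulAut.conj a') _).symm
      · rw [← hw]
        conv_rhs => rw [← hg']
        exact (W_conj p a ((a'⁻¹ * g * a' : ↥Cfsg.M24) : pG)).symm
      · apply List.map_injective_iff.2 a.injective
        rw [← k1.2, he, hta]
    · intro q hq
      simp only [hA, Finset.mem_filter, Finset.mem_univ, true_and] at hq
      obtain ⟨⟨-, hok⟩, he⟩ := hq
      have := (fiber_iff hp _ (a q.2.1) (a q.2.2)).1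
        ⟨(key q.1 _ _).1.2 hok, by rw [(key q.1 _ _).2, he, hta]⟩
      refine Prod.ext (by group) (Prod.ext ?_ ?_)
      · show a⁻¹ (base 0) = q.2.1
        rw [← this.1]; simp
      · show a⁻¹ (base (free p)) = q.2.2
        rw [← this.2.1]; simp
    · intro g _; group
  rw [← hAc, Finset.card_eq_sum_card_fiberwise
    (f := fun q : ↥Cfsg.M24 × GolayPt × GolayPt => ext p ((q.1 : pG) : GolayPt → GolayPt) q.2.1 q.2.2)
    (t := T) (fun q hq => by
      simp only [hA, Finset.coe_filter, Finset.mem_univ, true_and, Set.mem_setOf_eq] at hq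
      exact (hmem _).2 ⟨hq.2.2.1, length_ext hp _ _ _⟩),
    Finset.sum_congr rfl hfib, Finset.sum_const, smul_eq_mul, hTc]

/-! ### The candidates -/

theorem fixPow_iff {c : ℕ} {g : pG} (h : IsTab c g) (n : ℕ) : fixPow c n = true ↔ g ^ n = 1 := by
  simp only [fixPow, List.all_eq_true, List.mem_range, beq_iff_eq]
  refine ⟨fun hf => Equiv.ext fun q => ix_injective ?_, fun e i hi => ?_⟩
  · rw [ix_pow h, Equiv.Perm.one_apply, hf _ (ix_lt q)]
  · have := ix_pow h n (pt i)
    rw [e, Equiv.Perm.one_apply, ix_pt hi] at this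
    exact this.symm

theorem ordTest_iff {c : ℕ} {g : pG} (h : IsTab c g) {n : ℕ} (hn : 0 < n) :
    ordTest c n = true ↔ orderOf g = n := by
  rw [orderOf_eq_iff hn]
  simp only [ordTest, Bool.and_eq_true, decide_eq_true_eq, List.all_eq_true, List.mem_range,
    Bool.or_eq_true, beq_iff_eq, Bool.not_eq_true', Bool.eq_false_iff, ne_eq, fixPow_iff h]
  exact ⟨fun ⟨⟨_, h1⟩, h2⟩ => ⟨h1, fun m hm hm0 => (h2 m hm).resolve_left hm0.ne'⟩,
    fun ⟨h1, h2⟩ => ⟨⟨hn, h1⟩, fun m hm => (Nat.eq_zero_or_pos m).imp id (h2 m hm)⟩⟩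

theorem pat_ok {p : ℕ} (hp : p < 4) : patOK p = true := by
  interval_cases p
  exacts [pat_ok0, pat_ok1, pat_ok2, pat_ok3]

theorem rows_ok : (rows.all fun r => decide (r.1 < 4) && decide (0 < r.2.1) && decide (0 < r.2.2.1) &&
    (r.2.2.2.2 * r.2.2.1 == Nat.descFactorial 24 (len r.1) * r.2.2.2.1)) = true := by decide +kernel

theorem cand_mem {s : ℕ} (hs : tabOK s = true) {c : ℕ} (hc : c ∈ candTabs s) :
    ∃ g ∈ Cfsg.M24, IsTab c g := by
  simp only [candTabs, List.mem_flatMap, List.mem_map] at hc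
  obtain ⟨a, ⟨w4, -, rfl⟩, b, ⟨w5, -, rfl⟩, w6, -, rfl⟩ := hc
  exact ⟨tabPerm s * evalWord w4 * evalWord w5 * evalWord w6,
    Cfsg.M24.mul_mem (Cfsg.M24.mul_mem (Cfsg.M24.mul_mem (tabPerm_mem hs) (evalWord_mem _))
      (evalWord_mem _)) (evalWord_mem _),
    isTab_comp (isTab_comp (isTab_comp (isTab_tabPerm hs) (isTab_word w4)) (isTab_word w5))
      (isTab_word w6)⟩

open Classical in
theorem card_coset [Fintype ↥Cfsg.M24] {r : ℕ × ℕ × ℕ × ℕ × ℕ} (hr : r ∈ rows) :
    ((Finset.univ : Finset ↥Cfsg.M24).filter fun g : ↥Cfsg.M24 =>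
      (orderOf g = r.2.1 ∧ W r.1 (g : pG) = r.2.2.1) ∧ Imgs r.1 (g : pG)).card = r.2.2.2.1 := by
  have hrow := List.all_eq_true.1 rows_ok r hr
  simp only [Bool.and_eq_true, decide_eq_true_eq] at hrow
  obtain ⟨⟨⟨hp, hn⟩, -⟩, -⟩ := hrow
  have h := pat_ok hp
  simp only [patOK, force_eq, Bool.and_eq_true, List.all_eq_true, List.mem_range, beq_iff_eq] at h
  obtain ⟨⟨⟨⟨hs, himg⟩, hL⟩, hd⟩, hk⟩ := h
  set L := candTabs (start r.1) with hLdef
  rw [← hk r (List.mem_filter.2 ⟨hr, by simp⟩), List.countP_eq_length_filter,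
    ← List.toFinset_card_of_nodup ((List.Nodup.of_map _ (nodup_of_distinct hd)).filter _)]
  have hinj : Function.Injective fun g : ↥Cfsg.M24 => permTab (g : pG) := fun a b e =>
    Subtype.ext ((isTab_permTab (a : pG)).unique (by
      rw [show permTab (a : pG) = permTab (b : pG) from e]; exact isTab_permTab _))
  rw [← Finset.card_image_of_injective _ hinj]
  congr 1
  ext c
  simp only [Finset.mem_image, Finset.mem_filter, Finset.mem_univ, true_and, List.mem_toFinset,
    List.mem_filter, Bool.and_eq_true, beq_iff_eq]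
  constructor
  · rintro ⟨g, ⟨⟨ho, hw⟩, hI⟩, rfl⟩
    obtain ⟨c, hc, hct⟩ := exists_cand hs g.2 (fun i hi => by
      rw [hI i hi]
      exact (tabPerm_base hs (m := (img r.1).getD i 0) (by
        interval_cases hr1 : r.1 <;> interval_cases i <;> simp [img]) (himg i hi)).symm)
    have hce : permTab (g : pG) = c := (isTab_eq hct).symm.trans (hL c hc).1
    rw [hce]
    refine ⟨hc, (ordTest_iff hct hn).2 ?_, ?_⟩
    · rw [Subgroup.orderOf_coe]; exact ho
    · rw [← W_eq_wTab hct hp]; exact hw
  · rintro ⟨hc, hord, hw⟩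
    obtain ⟨g, hg, hgt⟩ := cand_mem hs hc
    refine ⟨⟨g, hg⟩, ⟨⟨?_, ?_⟩, fun i hi => ix_injective ?_⟩, ?_⟩
    · rw [← Subgroup.orderOf_coe]; exact (ordTest_iff hgt hn).1 hord
    · show W r.1 g = _
      rw [W_eq_wTab hgt hp]; exact hw
    · show ix (g (base i)) = _
      rw [hgt, base, base, ix_pt (baseIx_lt _), ix_pt (baseIx_lt _), (hL c hc).2 i hi]
    · exact (isTab_eq hgt).symm.trans (hL c hc).1

/-! ### The counts -/

open Classical in
/-- The elements of a row. -/
noncomputable def rowSet [Fintype ↥Cfsg.M24] (r : ℕ × ℕ × ℕ × ℕ × ℕ) : Finset ↥Cfsg.M24 :=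
  Finset.univ.filter fun g : ↥Cfsg.M24 => orderOf g = r.2.1 ∧ W r.1 (g : pG) = r.2.2.1

theorem card_rowSet [Fintype ↥Cfsg.M24] {r : ℕ × ℕ × ℕ × ℕ × ℕ} (hr : r ∈ rows) :
    (rowSet r).card = r.2.2.2.2 := by
  classical
  have hrow := List.all_eq_true.1 rows_ok r hr
  simp only [Bool.and_eq_true, decide_eq_true_eq, beq_iff_eq] at hrow
  obtain ⟨⟨⟨hp, -⟩, hw⟩, he⟩ := hrow
  have h := double_count hp r.2.1 r.2.2.1
  rw [card_coset hr, ← he] at h
  exact Nat.eq_of_mul_eq_mul_right hw (by unfold rowSet; exact h)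

theorem rows_key : (rows.map fun r => (r.2.1, r.2.2.1)).Nodup ∧
    (∀ r ∈ rows, ∀ r' ∈ rows, r.2.1 = r'.2.1 → r.1 = r'.1) ∧
    (rows.map fun r => r.2.2.2.2).sum = 244823039 ∧ (∀ r ∈ rows, r.2.1 ≠ 1) := by
  decide +kernel

/-- The number of elements of order `n`. -/
def count (n : ℕ) : ℕ :=
  if n = 1 then 1 else ((rows.filter fun r => r.2.1 == n).map fun r => r.2.2.2.2).sum

theorem card_order (n : ℕ) : Nat.card {g : ↥Cfsg.M24 // orderOf g = n} = count n := by
  classical
  haveI := Fintype.ofFinite ↥Cfsg.M24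
  obtain ⟨hnd, hpat, hsum, hne⟩ := rows_key
  have hrn : rows.Nodup := List.Nodup.of_map _ hnd
  have hdis : (↑rows.toFinset : Set (ℕ × ℕ × ℕ × ℕ × ℕ)).PairwiseDisjoint rowSet := by
    intro r hr r' hr' hne'
    simp only [Finset.mem_coe, List.mem_toFinset] at hr hr'
    refine Finset.disjoint_left.2 fun g hg hg' => hne' ?_
    simp only [rowSet, Finset.mem_filter, Finset.mem_univ, true_and] at hg hg'
    have hn' : r.2.1 = r'.2.1 := hg.1.symm.trans hg'.1
    refine List.inj_on_of_nodup_map hnd hr hr' ?_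
    rw [hpat r hr r' hr' hn'] at hg
    exact Prod.ext hn' (hg.2.symm.trans hg'.2)
  have hone : ∀ g : ↥Cfsg.M24, orderOf g = 1 ↔ g = 1 := fun g => orderOf_eq_one_iff
  have hall : insert 1 (rows.toFinset.biUnion rowSet) = (Finset.univ : Finset ↥Cfsg.M24) := by
    refine Finset.eq_univ_of_card _ ?_
    rw [Finset.card_insert_of_notMem, Finset.card_biUnion hdis,
      Finset.sum_congr rfl fun r hr => card_rowSet (List.mem_toFinset.1 hr),
      List.sum_toFinset _ hrn, hsum, ← Nat.card_eq_fintype_card, card_M24]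
    simp only [Finset.mem_biUnion, List.mem_toFinset, rowSet, Finset.mem_filter, orderOf_one, not_exists,
      not_and]
    exact fun r hr _ h => absurd h.symm (hne r hr)
  by_cases h1 : n = 1
  · subst h1
    simp only [count, if_pos]
    rw [Nat.card_eq_fintype_card, Fintype.card_subtype, Finset.card_eq_one]
    exact ⟨1, by ext g; simp [hone]⟩
  rw [Nat.card_eq_fintype_card, Fintype.card_subtype, count, if_neg h1]
  have e : (Finset.univ.filter fun g : ↥Cfsg.M24 => orderOf g = n) =
      (rows.filter fun r => r.2.1 == n).toFinset.biUnion rowSet := by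
    ext g
    simp only [Finset.mem_filter, Finset.mem_univ, true_and, Finset.mem_biUnion, List.mem_toFinset,
      List.mem_filter, beq_iff_eq]
    constructor
    · intro hg
      have hm := Finset.mem_univ g
      rw [← hall, Finset.mem_insert, Finset.mem_biUnion] at hm
      rcases hm with rfl | ⟨r, hr, hgr⟩
      · exact absurd (by simpa using hg.symm) h1
      · refine ⟨r, ⟨List.mem_toFinset.1 hr, ?_⟩, hgr⟩
        simp only [rowSet, Finset.mem_filter] at hgr
        exact hgr.2.1.symm.trans hg
    · rintro ⟨r, ⟨-, rfl⟩, hgr⟩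
      simp only [rowSet, Finset.mem_filter] at hgr
      exact hgr.2.1
  rw [e, Finset.card_biUnion (hdis.subset (by
      intro r hr
      simp only [Finset.mem_coe, List.mem_toFinset, List.mem_filter] at hr ⊢
      exact hr.1)),
    Finset.sum_congr rfl fun r hr => card_rowSet (List.mem_filter.1 (List.mem_toFinset.1 hr)).1,
    List.sum_toFinset _ (hrn.filter _)]

/-- The values of the counting function of M24. -/
theorem nse_M24 : {c : ℕ | 0 < c ∧ ∃ n : ℕ, c = Nat.card {g : ↥Cfsg.M24 // orderOf g = n}} =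
    ↑({1, 43263, 712448, 5100480, 4080384, 20401920, 11658240, 15301440, 12241152, 22256640,
      40803840, 34974720, 32643072, 23316480, 21288960} : Finset ℕ) := by
  ext c
  simp only [card_order, Set.mem_setOf_eq, Finset.mem_coe]
  constructor
  · rintro ⟨hc, n, rfl⟩
    have hn : n ∈ [1, 2, 3, 4, 5, 6, 7, 8, 10, 11, 12, 14, 15, 21, 23] := by
      by_contra hno
      refine hc.ne' ?_
      have hne1 : n ≠ 1 := fun e => hno (by simp [e])
      rw [count, if_neg hne1, List.filter_eq_nil_iff.2, List.map_nil, List.sum_nil]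
      intro r hr h
      rw [beq_iff_eq] at h
      exact hno (h ▸ (List.all_eq_true.1 (show (rows.all fun r =>
        decide (r.2.1 ∈ [1, 2, 3, 4, 5, 6, 7, 8, 10, 11, 12, 14, 15, 21, 23])) = true by
          decide +kernel) r hr |> of_decide_eq_true))
    fin_cases hn <;> decide +kernel
  · intro hc
    have h : ∀ c ∈ ({1, 43263, 712448, 5100480, 4080384, 20401920, 11658240, 15301440, 12241152,
        22256640, 40803840, 34974720, 32643072, 23316480, 21288960} : Finset ℕ),
        0 < c ∧ ∃ n ∈ [1, 2, 3, 4, 5, 6, 7, 8, 10, 11, 12, 14, 15, 21, 23], c = count n := by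
      decide +kernel
    obtain ⟨h0, n, -, e⟩ := h c hc
    exact ⟨h0, n, e⟩

end Cfsg.Agent.M24Order.CountM24
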