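import Cfsg.Agent.Lib.M24Module.CentBase

/-!
Data and checks for the numbers of elements of each order in M24.  By transitivity on five-tuples, the pairs (element,
tuple following a pattern) are counted by the 960 elements with prescribed images of four base
points; nineteen rows of such counts add up to the whole group.
-/

set_option autoImplicit false
set_option maxRecDepth 20000
set_option linter.style.haveILetI false

namespace Cfsg.Agent.M24Order.CountM24

open Cfsg Cfsg.Agent.Golay.Basic Cfsg.Agent.Golay.Perm Cfsg.Agent.Golay.M24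
  Cfsg.Agent.Golay.M24Data Cfsg.Agent.Golay.Cert Cfsg.Agent.M24Module.ClassData
  Cfsg.Agent.M24Module.Classes Cfsg.Agent.M24Module.CentBase Cfsg.Agent.M24Module.Trie
open Cfsg.Agent.M24Module.ObjOrbit (modulus)

local notation "pG" => Equiv.Perm GolayPt

/-! ### Patterns -/

/-- An element sending the first four base points cyclically. -/
def fourStart : ℕ := 638877748458529105416876775756008513

/-- The element starting the candidates of a pattern. -/
def start : ℕ → ℕ
  | 0 => sevenStart
  | 1 => fourStart
  | 2 => threeStart
  | _ => twoStart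

/-- The images of the first four points of a tuple. -/
def img : ℕ → List ℕ
  | 0 => [1, 2, 3, 4]
  | 1 => [1, 2, 3, 0]
  | 2 => [1, 2, 0, 4]
  | _ => [1, 0, 3, 2]

/-- The length of a tuple. -/
def len : ℕ → ℕ
  | 0 => 5
  | 1 => 4
  | 2 => 5
  | _ => 4

/-- The position of the free point. -/
def free : ℕ → ℕ
  | 0 => 0
  | 1 => 0
  | 2 => 3
  | _ => 2

/-- The tuple of a pattern. -/
def ext {α : Type*} (p : ℕ) (f : α → α) (x y : α) : List α :=
  match p with
  | 0 => [x, f x, f (f x), f (f (f x)), f (f (f (f x)))]
  | 1 => [x, f x, f (f x), f (f (f x))]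
  | 2 => [x, f x, f (f x), y, f y]
  | _ => [x, f x, y, f y]

/-- The tuple follows the pattern. -/
def Ok {α : Type*} (p : ℕ) (f : α → α) (x y : α) : Prop :=
  (p < 2 → y = x) ∧ (ext p f x y).Nodup ∧
    ∀ i < 4, ((ext p f x y)[i]?).map f = (ext p f x y)[(img p).getD i 0]?

/-- The test for `Ok`, written out for each pattern. -/
def okB : ℕ → (ℕ → ℕ) → ℕ → ℕ → Bool
  | 0, f, x, y => (y == x) && (f x != x) && (f (f x) != x) && (f (f x) != f x) &&
      (f (f (f x)) != x) && (f (f (f x)) != f x) && (f (f (f x)) != f (f x)) &&
      (f (f (f (f x))) != x) && (f (f (f (f x))) != f x) && (f (f (f (f x))) != f (f x)) &&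
      (f (f (f (f x))) != f (f (f x)))
  | 1, f, x, y => (y == x) && (f (f (f (f x))) == x) && (f x != x) && (f (f x) != x) &&
      (f (f x) != f x) && (f (f (f x)) != x) && (f (f (f x)) != f x) && (f (f (f x)) != f (f x))
  | 2, f, x, y => (f (f (f x)) == x) && (f x != x) && (f (f x) != x) && (f (f x) != f x) &&
      (y != x) && (y != f x) && (y != f (f x)) && (f y != x) && (f y != f x) &&
      (f y != f (f x)) && (f y != y)
  | _, f, x, y => (f (f x) == x) && (f (f y) == y) && (f x != x) && (y != x) && (y != f x) &&
      (f y != x) && (f y != f x) && (f y != y)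

/-- Evaluate a number before using it. -/
def force {α : Type} (c : ℕ) (k : ℕ → α) : α :=
  match c with
  | 0 => k 0
  | n + 1 => k (n + 1)

theorem force_eq {α : Type} (c : ℕ) (k : ℕ → α) : force c k = k c := by cases c <;> rfl

/-- The number of tuples, from a table. -/
def wTab (p c : ℕ) : ℕ :=
  ∑ i ∈ Finset.range 24,
    if p < 2 then (if okB p (tabAt c) i i = true then 1 else 0)
    else ((Finset.range 24).filter fun j => okB p (tabAt c) i j = true).card

/-- The power fixes everything. -/
def fixPow (c n : ℕ) : Bool := (List.range 24).all fun i => powAt c n i == i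

/-- The order test. -/
def ordTest (c n : ℕ) : Bool :=
  decide (0 < n) && fixPow c n && (List.range n).all fun d => d == 0 || !fixPow c d

/-- The rows: pattern, order, tuples per element, candidates, elements. -/
def rows : List (ℕ × ℕ × ℕ × ℕ × ℕ) :=
  [(0, 5, 20, 16, 4080384), (0, 6, 12, 24, 10200960), (0, 6, 24, 48, 10200960),
   (0, 7, 21, 48, 11658240), (0, 8, 16, 48, 15301440), (0, 10, 20, 48, 12241152),
   (0, 11, 22, 96, 22256640), (0, 12, 18, 72, 20401920), (0, 12, 24, 96, 20401920),
   (0, 14, 21, 144, 34974720), (0, 15, 20, 128, 32643072), (0, 21, 21, 96, 23316480),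
   (0, 23, 23, 96, 21288960), (1, 4, 16, 160, 2550240), (1, 4, 24, 240, 2550240),
   (2, 3, 270, 12, 226688), (2, 3, 504, 48, 485760), (3, 2, 224, 10, 11385),
   (3, 2, 528, 66, 31878)]

/-- The check of the candidates of one pattern. -/
def patOK (p : ℕ) : Bool :=
  let L := candTabs (start p)
  tabOK (start p) &&
  ((List.range 4).all fun i => tabAt (start p) (baseIx.getD i 0) == baseIx.getD ((img p).getD i 0) 0) &&
  (L.all fun c => force c fun c => (packTab (fun i => tabAt c i) 24 == c) && (List.range 4).all fun i =>
    tabAt c (baseIx.getD i 0) == baseIx.getD ((img p).getD i 0) 0) &&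
  distinct (L.map fun c => c % modulus) &&
  (rows.filter fun r => r.1 == p).all fun r =>
    (L.countP fun c => force c fun c => ordTest c r.2.1 && wTab p c == r.2.2.1) == r.2.2.2.1

theorem pat_ok0 : patOK 0 = true := by decide +kernel
theorem pat_ok1 : patOK 1 = true := by decide +kernel
theorem pat_ok2 : patOK 2 = true := by decide +kernel
theorem pat_ok3 : patOK 3 = true := by decide +kernel

end Cfsg.Agent.M24Order.CountM24
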