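import Cfsg.Statements.S3596

/-!
# The facts about a group with the order and the element-order counts of `M24`

`Facts G` is what the counting half delivers and all the local half uses: two classes of involutions,
with centralisers of orders `21504` and `7680`, and a few facts on the centralisers of elements of order
`7` and `5`.
-/

set_option autoImplicit false

namespace Cfsg.Agent.M24Order

open Subgroup

/-- The consequences of order and counts used by the local analysis. -/
structure Facts (G : Type*) [Group G] [Finite G] where
  card : Nat.card G = 244823040
  simple : IsSimpleGroup G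
  /-- An involution commuting with an element of order seven. -/
  z : G
  /-- An element of order seven. -/
  u : G
  /-- An involution commuting with an element of order five. -/
  t : G
  z_two : orderOf z = 2
  u_seven : orderOf u = 7
  uz : u * z = z * u
  card_Cz : Nat.card (centralizer ({z} : Set G)) = 21504
  card_Czu : Nat.card ↥(centralizer ({z} : Set G) ⊓ centralizer ({u} : Set G)) = 14
  card_Nzu : Nat.card ↥(centralizer ({z} : Set G) ⊓ normalizer (zpowers u : Set G)) = 42
  t_two : orderOf t = 2
  card_Ct : Nat.card (centralizer ({t} : Set G)) = 7680
  involution : ∀ i : G, orderOf i = 2 →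
    (∃ g, g * z * g⁻¹ = i) ∨ (∃ g, g * t * g⁻¹ = i)
  /-- The centraliser of an element of order five is `5 × A₄`. -/
  card_five : ∀ v : G, orderOf v = 5 → Nat.card (centralizer ({v} : Set G)) = 60
  five : ∀ v : G, orderOf v = 5 → v * t = t * v →
    Nat.card ↥(centralizer ({t} : Set G) ⊓ centralizer ({v} : Set G)) = 20 ∧
      Nat.card ↥(centralizer ({t} : Set G) ⊓ normalizer (zpowers v : Set G)) = 80
  eight : ∃ g : G, orderOf g = 8
  six : Nat.card {g : G // orderOf g = 6} = 20401920

end Cfsg.Agent.M24Order
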