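import Cfsg.Agent.Lib.HeLocal.Cz.Main
import Cfsg.Agent.Lib.HeLocal.CzBridge
import Cfsg.Agent.Lib.HeLocal.Count.Main
import Cfsg.Agent.Lib.HeLocal.LinearCase
import Cfsg.Agent.Lib.HeLocal.Endgame
import Cfsg.Agent.Lib.HeLocal.End.OfEquiv
import Cfsg.Agent.Lib.M24Recog.OfIso
import Cfsg.Agent.InvChar.Coset.HeOrder

/-!
# A simple group of the order of `M24` with an involution centraliser `2^(1+6).L3(2)`

The three other models of the centraliser are excluded as for the order of `He` (with `11385`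
conjugates of the involution); the plain model gives one of three groups, of which only `M24` has the order.
-/

set_option autoImplicit false

namespace Cfsg.Agent.M24Order

open Subgroup Cfsg.Agent.LargeExtra Cfsg.Agent.HeLocal.Cz

variable {G : Type*} [Group G] [Finite G] {z : G}

theorem card_class_mathieu {k t : Bool} (C : Coord k t z) (hG : Nat.card G = 244823040) :
    Nat.card (Class z) = 11385 := by
  have h1 : Nat.card (Class z) = (centralizer ({z} : Set G)).index := by
    rw [Nat.card_coe_set_eq, ← MulAction.index_stabilizer (G := ConjAct G) (x := z)]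
    have e : MulAction.stabilizer (ConjAct G) z =
        (centralizer ({z} : Set G)).comap (ConjAct.ofConjAct (G := G)).toMonoidHom := by
      ext c
      rw [MulAction.mem_stabilizer_iff, ConjAct.smul_def, mem_comap, mem_centralizer_singleton_iff]
      exact mul_inv_eq_iff_eq_mul
    rw [e, index_comap_of_surjective _ (ConjAct.ofConjAct (G := G)).surjective]
  have h2 := (centralizer ({z} : Set G)).card_mul_index
  rw [card_of_coord C, hG] at h2
  omega

theorem unitwist_false [IsSimpleGroup G] (C : Coord true true z) (hz : orderOf z = 2)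
    (hG : Nat.card G = 244823040) : False := by
  have hz2 : z * z = 1 := by rw [← pow_two, ← hz, pow_orderOf_eq_one]
  have hfuse : ∀ w : G, (∃ g, g * z * g⁻¹ = w) → w * z = z * w → w ≠ z →
      ∃ x < 16, 2 ≤ x ∧ (C.toC x : G) = w ∧ ∃ u : G, u * C.toC 2 * u⁻¹ = w := by
    rintro w ⟨g, hg⟩ hwz hne
    obtain ⟨p, hp, hp2, x, hx, hxw, hl1, hl2⟩ := C.fused_rep uniTwist_ok uniTwist_rev hz2 hwz hne hg
    have hsmall := uniTwist_two p hp hp2
    have hl : lpart p.1 = 0 := by
      show p.1 >>> 7 = 0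
      rw [Nat.shiftRight_eq_div_pow]; omega
    have hpx := hl2 (hl1 hl)
    subst hpx
    have hx2 : 2 ≤ p.1 := by
      by_contra h
      rcases (show p.1 = 0 ∨ p.1 = 1 by omega) with e | e <;> rw [e] at hxw
      · rw [C.zero] at hxw
        rw [← hxw] at hg
        have h1 : z = 1 := by
          have := congrArg (fun v => g⁻¹ * v * g) hg
          simpa [mul_assoc] using this
        rw [h1, orderOf_one] at hz
        norm_num at hz
      · exact hne (hxw.symm.trans C.toC_one)
    refine ⟨p.1, hsmall, hx2, hxw, ?_⟩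
    have h := uniTwist_ok
    simp only [coverOK, Bool.and_eq_true, List.all_eq_true, Nat.blt_eq, Nat.beq_eq] at h
    obtain ⟨⟨⟨⟨hr, hgc⟩, hc⟩, hm⟩, -⟩ := h.1.2 p hp
    rw [hp2] at hm hr
    refine ⟨C.toC p.2.2, ?_⟩
    have e := congrArg (fun v => (C.toC v : G)) hm
    simp only [C.coe_mul hgc hr, C.coe_mul hc hgc, hxw] at e
    rw [e, mul_inv_cancel_right]
  obtain ⟨g₀, hg₀c, hg₀⟩ := C.not_isolated hz
  obtain ⟨x₀, -, -, -, u₀, hu₀⟩ := hfuse _ ⟨g₀, rfl⟩ hg₀c hg₀
  have hall : ∀ x < 16, 1 ≤ x → ∃ u : G, u * z * u⁻¹ = C.toC x := by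
    intro x hx hx1
    by_cases hx' : x = 1
    · exact ⟨1, by rw [hx', C.toC_one]; group⟩
    obtain ⟨p, hp, rfl, hp2⟩ := uniTwist_all x hx (by omega)
    have h := uniTwist_ok
    simp only [coverOK, Bool.and_eq_true, List.all_eq_true, Nat.blt_eq, Nat.beq_eq] at h
    obtain ⟨⟨⟨⟨hr, hgc⟩, hc⟩, hm⟩, -⟩ := h.1.2 p hp
    rw [hp2] at hm hr
    have e := congrArg (fun v => (C.toC v : G)) hm
    simp only [C.coe_mul hgc hr, C.coe_mul hc hgc] at e
    refine ⟨C.toC p.2.2 * (u₀⁻¹ * g₀), ?_⟩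
    calc (C.toC p.2.2 : G) * (u₀⁻¹ * g₀) * z * ((C.toC p.2.2 : G) * (u₀⁻¹ * g₀))⁻¹
        = C.toC p.2.2 * (u₀⁻¹ * (g₀ * z * g₀⁻¹) * u₀) * (C.toC p.2.2 : G)⁻¹ := by group
      _ = C.toC p.2.2 * C.toC 2 * (C.toC p.2.2 : G)⁻¹ := by rw [← hu₀]; group
      _ = _ := by rw [e, mul_inv_cancel_right]
  -- the elementary group of order sixteen
  let E : Subgroup G :=
    { carrier := {g | ∃ x < 16, (C.toC x : G) = g}
      one_mem' := ⟨0, by norm_num, by rw [C.zero]; rfl⟩
      mul_mem' := by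
        rintro _ _ ⟨x, hx, rfl⟩ ⟨y, hy, rfl⟩
        exact ⟨_, (uniTwist_square x hx y hy).1, C.coe_mul (by omega) (by omega)⟩
      inv_mem' := by
        rintro _ ⟨x, hx, rfl⟩
        refine ⟨x, hx, eq_inv_of_mul_eq_one_left ?_⟩
        rw [← C.coe_mul (by omega) (by omega), (uniTwist_square x hx x hx).2.2, C.zero]; rfl }
  have hE : Nat.card E = 16 := by
    rw [← Nat.card_congr (Equiv.ofBijective
      (fun i : Fin 16 => (⟨(C.toC i.val : G), i.val, i.isLt, rfl⟩ : E))
      ⟨fun i j h => Fin.ext (C.coe_inj (by omega) (by omega) (congrArg Subtype.val h :)), fun g => by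
        obtain ⟨g, x, hx, rfl⟩ := g
        exact ⟨⟨x, hx⟩, rfl⟩⟩), Nat.card_eq_fintype_card, Fintype.card_fin]
  letI : MulAction ↥E (Class z) := MulAction.compHom _ (ConjAct.toConjAct.toMonoidHom.comp E.subtype)
  have hmem : ∀ w : G, w ∈ MulAction.orbit (ConjAct G) z ↔ ∃ g, g * z * g⁻¹ = w := by
    intro w
    constructor
    · rintro ⟨c, rfl⟩; exact ⟨ConjAct.ofConjAct c, (ConjAct.smul_def c z).symm⟩
    · rintro ⟨g, rfl⟩; exact ⟨ConjAct.toConjAct g, by show ConjAct.toConjAct g • z = _; rw [ConjAct.smul_def]; rfl⟩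
  have hfix : ∀ a : E, a ≠ 1 → Nat.card (MulAction.fixedBy (Class z) a) = 15 := by
    rintro ⟨_, x, hx, rfl⟩ ha
    have hx1 : 1 ≤ x := by
      by_contra h
      obtain rfl : x = 0 := by omega
      exact ha (Subtype.ext (congrArg Subtype.val C.zero :))
    obtain ⟨u, hu⟩ := hall x hx hx1
    have hiff : ∀ w : Class z, (⟨(C.toC x : G), x, hx, rfl⟩ : E) • w = w ↔ (C.toC x : G) * w * (C.toC x : G)⁻¹ = w :=
      fun w => ⟨fun h => congrArg Subtype.val h, fun h => Subtype.ext h⟩
    have key : ∀ i : Fin 15, ∃ v, v * z * v⁻¹ = u * C.toC (i.val + 1) * u⁻¹ := fun i => by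
      obtain ⟨v, hv⟩ := hall (i.val + 1) (by omega) (by omega)
      exact ⟨u * v, by rw [← hv]; group⟩
    have hin : ∀ i : Fin 15, (C.toC x : G) * (u * C.toC (i.val + 1) * u⁻¹) * (C.toC x : G)⁻¹ =
        u * C.toC (i.val + 1) * u⁻¹ := fun i => by
      rw [← hu, show u * z * u⁻¹ * (u * C.toC (i.val + 1) * u⁻¹) * (u * z * u⁻¹)⁻¹ =
        u * (z * C.toC (i.val + 1) * z⁻¹) * u⁻¹ by group, ← C.comm_z, mul_inv_cancel_right]
    rw [← Nat.card_congr (Equiv.ofBijective (fun i : Fin 15 =>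
      (⟨⟨u * C.toC (i.val + 1) * u⁻¹, (hmem _).2 (key i)⟩, (hiff _).2 (hin i)⟩ :
        MulAction.fixedBy (Class z) (⟨(C.toC x : G), x, hx, rfl⟩ : E))) ⟨?_, ?_⟩),
      Nat.card_eq_fintype_card, Fintype.card_fin]
    · intro i j h
      have h' : u * C.toC (i.val + 1) * u⁻¹ = u * C.toC (j.val + 1) * u⁻¹ := congrArg (fun w => (w.1.1 : G)) h
      have := C.coe_inj (by omega) (by omega) (mul_left_cancel (mul_right_cancel h'))
      exact Fin.ext (by omega)
    · rintro ⟨⟨w, hw⟩, hwf⟩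
      have hc := (hiff _).1 hwf
      change (C.toC x : G) * w * (C.toC x : G)⁻¹ = w at hc
      obtain ⟨g, hg⟩ := (hmem w).1 hw
      set w' := u⁻¹ * w * u with hw'
      have hcw : w' * z = z * w' := by
        have h1 : u * z * u⁻¹ * w = w * (u * z * u⁻¹) := by
          rw [hu]; exact mul_inv_eq_iff_eq_mul.1 hc
        calc w' * z = u⁻¹ * (w * (u * z * u⁻¹)) * u := by rw [hw']; group
          _ = u⁻¹ * (u * z * u⁻¹ * w) * u := by rw [h1]
          _ = z * w' := by rw [hw']; group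
      have hw'c : ∃ g', g' * z * g'⁻¹ = w' := ⟨u⁻¹ * g, by rw [hw', ← hg]; group⟩
      obtain ⟨y, hy, hy1, hyw⟩ : ∃ y < 16, 1 ≤ y ∧ (C.toC y : G) = w' := by
        by_cases he : w' = z
        · exact ⟨1, by norm_num, le_rfl, by rw [C.toC_one, he]⟩
        · obtain ⟨y, hy, hy2, hyw, -⟩ := hfuse w' hw'c hcw he
          exact ⟨y, hy, by omega, hyw⟩
      refine ⟨⟨y - 1, by omega⟩, Subtype.ext (Subtype.ext ?_)⟩
      show u * C.toC (y - 1 + 1) * u⁻¹ = w
      rw [Nat.sub_add_cancel hy1, hyw, hw']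
      group
  classical
  haveI := Fintype.ofFinite G
  have hb := MulAction.sum_card_fixedBy_eq_card_orbits_mul_card_group ↥E (Class z)
  rw [← Finset.add_sum_erase _ _ (Finset.mem_univ (1 : E))] at hb
  have h1 : Fintype.card (MulAction.fixedBy (Class z) (1 : E)) = 11385 := by
    rw [← Nat.card_eq_fintype_card, ← card_class_mathieu C hG]
    exact Nat.card_congr (Equiv.subtypeUnivEquiv fun w => one_smul _ w)
  have hs : ∀ a ∈ (Finset.univ : Finset E).erase 1, Fintype.card (MulAction.fixedBy (Class z) a) = 15 :=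
    fun a ha => Nat.card_eq_fintype_card.symm.trans (hfix a (Finset.ne_of_mem_erase ha))
  rw [h1, Finset.sum_congr rfl hs, Finset.sum_const, Finset.card_erase_of_mem (Finset.mem_univ _), Finset.card_univ, smul_eq_mul,
    ← Nat.card_eq_fintype_card (α := E), hE] at hb
  omega

/-- The centraliser is the plain decomposable model. -/
theorem exists_dec [IsSimpleGroup G] (h : Shape z) (hG : Nat.card G = 244823040) :
    Nonempty (Coord false false z) := by
  obtain ⟨k, t, ⟨C⟩⟩ := h.exists_coord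
  have kill : ∀ {cv tb}, coverOK k t cv tb = true → noReverse 0 tb = true →
      (∀ p ∈ cv, p.2.1 ≠ 0) → False := by
    intro cv tb hok hrev hne
    obtain ⟨g, hgc, hg⟩ := C.not_isolated h.ctr.two
    obtain ⟨p, hp, hp0, -⟩ := C.fused_rep hok hrev h.ctr.zz hgc hg rfl
    exact hne p hp hp0
  cases k <;> cases t
  · exact ⟨C⟩
  · exact (kill decTwist_ok decTwist_rev (by decide +kernel)).elim
  · exact (kill uni_ok uni_rev (by decide +kernel)).elim
  · exact (unitwist_false C h.ctr.two hG).elim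

/-- A simple group of this order with an involution centraliser of this shape is `M24`. -/
theorem nonempty_equiv_of_shape {G : Type*} [Group G] [Finite G] [IsSimpleGroup G] {z : G}
    (h : Shape z) (hG : Nat.card G = 244823040) : Nonempty (G ≃* Cfsg.M24) := by
  obtain ⟨C⟩ := exists_dec h hG
  obtain ⟨e, he, -⟩ := h.exists_equiv C
  let I : HeLocal.Iso z := { e := e, e_zc := he }
  have S := I.sides_of_simple
  rcases I.card_trichotomy S with ⟨-, hc⟩ | ⟨h67, -⟩ | ⟨⟨T⟩⟩
  · omega
  · rcases h67 with ⟨h6, h7⟩ | ⟨h7, h6⟩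
    · exact I.swap.nonempty_equiv_M24 (I.swap_sides S) ((I.swap_zType (i := 7) (by norm_num)).2 h6)
        (fun h => h7 ((I.swap_zType (i := 6) (by norm_num)).1 h)) hG
    · exact I.nonempty_equiv_M24 S h7 h6 hG
  · obtain ⟨f⟩ := T.isoHe
    have := (Nat.card_congr f.toEquiv).symm.trans hG
    rw [InvChar.Coset.He.simple_and_card.2] at this
    omega

end Cfsg.Agent.M24Order
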